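/-
A finite morphism to a reduced scheme whose fibres all have the same rank is flat and of finite
presentation.
-/
import Groth.Agent.S6266
import Mathlib.AlgebraicGeometry.Morphisms.FlatRank
import Mathlib.AlgebraicGeometry.Pullbacks

set_option autoImplicit false

universe u

open CategoryTheory Limits AlgebraicGeometry TensorProduct

namespace Groth.Agent.FinRankFlat

theorem flat_lfp_of_fibre_finrank {W X : Scheme.{u}} (f : W ⟶ X) [IsFinite f] [IsReduced X] (d : ℕ)
    (H : ∀ (F : Type u) [Field F] (y : Spec (CommRingCat.of F) ⟶ X) (Q : Scheme.{u}) (q' : Q ⟶ W)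
      (q : Q ⟶ Spec (CommRingCat.of F)), IsPullback q' q f y → ∀ t, q.finrank t = d) :
    Flat f ∧ LocallyOfFinitePresentation f := by
  wlog hX : ∃ R, X = Spec R generalizing W X
  · have h : ∀ i, Flat (pullback.snd f (X.affineCover.f i)) ∧
        LocallyOfFinitePresentation (pullback.snd f (X.affineCover.f i)) := by
      intro i
      haveI hfin : IsFinite (pullback.snd f (X.affineCover.f i)) :=
        MorphismProperty.pullback_snd _ _ ‹_›
      haveI hred : IsReduced (X.affineCover.X i) := isReduced_of_isOpenImmersion (X.affineCover.f i)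
      exact this (pullback.snd f (X.affineCover.f i)) (fun F _ y Q q' q hQ t =>
        H F (y ≫ X.affineCover.f i) Q (q' ≫ pullback.fst f (X.affineCover.f i)) q
          (hQ.paste_horiz (IsPullback.of_hasPullback _ _)) t) ⟨_, rfl⟩
    exact ⟨(IsZariskiLocalAtTarget.iff_of_openCover (P := @Flat) X.affineCover).mpr fun i => (h i).1,
      (IsZariskiLocalAtTarget.iff_of_openCover (P := @LocallyOfFinitePresentation) X.affineCover).mpr
        fun i => (h i).2⟩
  obtain ⟨R, rfl⟩ := hX
  wlog hW : ∃ B, W = Spec B generalizing W
  · haveI haff : IsAffine W := isAffine_of_isAffineHom f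
    have h := this (W.isoSpec.inv ≫ f) (fun F _ y Q q' q hQ t =>
      H F y Q (q' ≫ W.isoSpec.inv) q
        (hQ.of_iso (Iso.refl _) W.isoSpec.symm (Iso.refl _) (Iso.refl _) (by simp) (by simp) (by simp)
          (by simp)) t) ⟨_, rfl⟩
    exact ⟨(MorphismProperty.cancel_left_of_respectsIso (P := @Flat) _ _).mp h.1,
      (MorphismProperty.cancel_left_of_respectsIso (P := @LocallyOfFinitePresentation) _ _).mp
        h.2⟩
  obtain ⟨B, rfl⟩ := hW
  obtain ⟨φ, rfl⟩ := Spec.map_surjective f
  letI : Algebra R B := φ.hom.toAlgebra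
  haveI : Module.Finite R B := (IsFinite.SpecMap_iff φ).mp inferInstance
  haveI : _root_.IsReduced R := (affine_isReduced_iff R).mp inferInstance
  have hrank : ∀ P : PrimeSpectrum R,
      Module.finrank P.asIdeal.ResidueField (P.asIdeal.ResidueField ⊗[R] B) = d := by
    intro P
    let κ := P.asIdeal.ResidueField
    have hsq : IsPullback ((pullbackSpecIso R κ B).inv ≫ pullback.snd _ _)
        (Spec.map (CommRingCat.ofHom (algebraMap κ (κ ⊗[R] B))))
        (Spec.map (CommRingCat.ofHom (algebraMap R B)))
        (Spec.map (CommRingCat.ofHom (algebraMap R κ))) := by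
      refine (IsPullback.of_hasPullback _ _).flip.of_iso (pullbackSpecIso R κ B) (Iso.refl _)
        (Iso.refl _) (Iso.refl _) ?_ ?_ (by simp) (by simp)
      · simp
      · rw [← pullbackSpecIso_inv_fst' R κ B]
        simp
    have h := H κ (Spec.map (CommRingCat.ofHom (algebraMap R κ))) _ _ _ hsq
      (default : Spec (CommRingCat.of κ))
    rw [Scheme.Hom.finrank_SpecMap_algebraMap, Module.rankAtStalk_eq_finrank_of_free] at h
    exact h
  obtain ⟨-, hproj⟩ := (Groth.Agent.S6266.result R B).mpr ⟨inferInstance, by
    simp only [hrank]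
    exact IsLocallyConstant.const d⟩
  haveI : Module.FinitePresentation R B := Module.finitePresentation_of_projective R B
  haveI : Module.Projective R B := hproj
  refine ⟨(Flat.SpecMap_iff).mpr (inferInstanceAs (Module.Flat R B)),
    (LocallyOfFinitePresentation.SpecMap_iff _).mpr ?_⟩
  exact (inferInstanceAs (Algebra.FinitePresentation R B))

end Groth.Agent.FinRankFlat
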